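import Cfsg.Agent.H579.RG.LongTab
import Cfsg.Agent.H660.RR.Crd_m3
import Cfsg.Agent.H169.RG.MPsi_m3
import Cfsg.Agent.H916.RG.D12in
import Cfsg.Agent.H729.TransFast
import Cfsg.Agent.H694.RG.Trans_m3
import Cfsg.Agent.FastGrp
import Cfsg.Agent.Prune
set_option linter.all false

section
prune_inst 0x7f00000000000000000000000000000000000000000000000000000000000000000000000000000000000000000000000000000000000000000000000000000000000000000000000000000000000000003fffffffffffffffffffffffffffbeffbdffffffff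

-- part: H579/RG/LongKK
section
set_option linter.all false
open scoped Cfsg.Agent.FastGrp

/-!
# S3509, exceptional groups: the long root rule (helper579), over a locally finite field

`Lv D l j` : the roots of level 1; `Tab.lq` : the relations (`H351.RG.LQ`) over any field;
`Tab.comm_kk` : the elements commuting with `x_a(s) ≠ 1` normalise `Q`;
`Tab.main_kk` : the rule `y = 1 ∨ z ∈ [QF, y]`.
-/

set_option autoImplicit false
set_option linter.unusedSectionVars false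

namespace Cfsg.Agent.H579.RG

open CoxeterSystem Cfsg Cfsg.Lie Cfsg.Lie.ChevalleyDatum
open Cfsg.Agent.ChevalleyStructure Cfsg.Agent.ChevalleyStructure.Elts Cfsg.Agent.ChevalleyStructure.CoxeterGeom
  Cfsg.Agent.ChevalleyStructure.CoxeterGeomTypes Cfsg.Agent.ChevalleyStructure.NPerm
open Cfsg.Agent.Tits.Roots Cfsg.Agent.Tits.Core Cfsg.Agent.Nodes Cfsg.Agent.Nodes.Reps Cfsg.Agent.Nodes.BNOf
  Cfsg.Agent.Nodes.RGDChev Cfsg.Agent.Nodes.Bruhat Cfsg.Agent.Nodes.Coroot Cfsg.Agent.KFacts.RgdTI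
  Cfsg.Agent.Nodes.LeviDec Cfsg.Agent.Nodes.StabComb
open Cfsg.Agent.KFacts.RgdField Cfsg.Agent.KFacts.RgdChevCoord Cfsg.Agent.BpExc.TorCent Cfsg.Agent.BpExc.TorChev
  Cfsg.Agent.BpExc.TowChev Cfsg.Agent.GpExc.Field
open Cfsg.Agent.H225.PPow Cfsg.Agent.KFacts.ChevTwoInst Cfsg.Agent.KFacts.RgdPar Cfsg.Agent.H380.RC
open Cfsg.Agent.ChevalleyStructure.RootVecTab Cfsg.Agent.ChevalleyStructure.RootVec
open scoped commutatorElement

universe u

variable {D : ChevalleyDatum} {l : ℕ} {M : CoxeterMatrix (Fin l)} (hp : IsType D l M) {j th : ℕ}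

/-- the roots of level 1 -/
def Lv (D : ChevalleyDatum) (l j : ℕ) : Set (Fin l → ℤ) := {x | ∃ r, r < D.nroots ∧ rt D r j = 1 ∧ vec D l r = x}

namespace Tab

variable (Tb : Tab D l j th)

include Tb

section anyfield

variable {K : Type u} [Field K]

include hp in
theorem ex_cen {r : ℕ} (hr : r < D.nroots) (h0 : 0 ≤ rt D r j) (s t : K) :
    ex hp r s * ex hp th t = ex hp th t * ex hp r s := by
  have hth := Tb.th_lt
  have := finite_W hp M.toCoxeterSystem
  by_cases h1 : r = th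
  · subst h1
    rw [← ex_add hp, ← ex_add hp, add_comm]
  have h2 : r ≠ D.neg th := by
    rintro rfl
    have h3 : vec D l (D.neg th) Tb.jf = rt D (D.neg th) j := rfl
    rw [← h3, vec_neg hp hth, Pi.neg_apply, Tb.lev_th hp M.toCoxeterSystem] at h0
    omega
  have h3 := List.all_eq_true.1 Tb.lr r (List.mem_range.2 hr)
  rw [Bool.or_eq_true, Bool.or_eq_true, decide_eq_true_eq, beq_iff_eq, beq_iff_eq] at h3
  have h4 : D.commTerms th r = [] := by
    rcases h3 with (h3 | h3) | h3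
    · omega
    · exact absurd h3 h1
    · exact h3
  rw [ex_comm hp hth hr h1 h2, h4, List.map_nil, List.prod_nil, mul_one]

include hp in
theorem ex_comm2 {c : ℕ × ℕ} (hc : c ∈ opL D j) (s t : K) :
    ⁅ex hp c.1 s, ex hp c.2 t⁆ = ex hp th (-(kf D c : K) * s * t) := by
  obtain ⟨h1, h2, h3, h4, h5, -⟩ := Tb.op_spec hc
  obtain ⟨h6, h7⟩ := Tb.mem_L1_of hc
  have h8 := ex_comm hp (K := K) h2 h1 h4 (Tb.ne_neg hp h2 (mem_L1.1 h7).2 (mem_L1.1 h6).2) t s
  rw [h5] at h8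
  simp only [List.map_cons, List.map_nil, List.prod_cons, List.prod_nil, mul_one, pow_one] at h8
  have h9 := Tb.ex_cen hp h1 (by rw [(mem_L1.1 h6).2]; norm_num) s ((kf D c : K) * -t * s)
  have h10 := Tb.ex_cen hp h2 (by rw [(mem_L1.1 h7).2]; norm_num) t ((kf D c : K) * -t * s)
  rw [commutatorElement_def, h8, mul_assoc (ex hp c.2 t), h9]
  have e : (kf D c : K) * -t * s = -(kf D c : K) * s * t := by ring
  rw [e] at h10 ⊢
  rw [← mul_assoc, h10]
  group

/-- **The relations of `Q`.** -/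
theorem lq : H351.RG.LQ (xc (K := K) hp) (vec D l th) (Lv D l j) (fun x => (cx D l th x : K)) := by
  have hth := Tb.th_lt
  have hx' : ∀ x, x = vec D l th ∨ x ∈ Lv D l j → ∃ r, r < D.nroots ∧ 0 ≤ rt D r j ∧ vec D l r = x := by
    rintro x (rfl | ⟨r, hr, h1, rfl⟩)
    · have := finite_W hp M.toCoxeterSystem
      refine ⟨th, hth, ?_, rfl⟩
      have h3 : vec D l th Tb.jf = rt D th j := rfl
      rw [← h3, Tb.lev_th hp M.toCoxeterSystem]
      norm_num
    · exact ⟨r, hr, by rw [h1]; norm_num, rfl⟩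
  constructor
  · intro x hx s t
    obtain ⟨r, hr, -, rfl⟩ := hx' x hx
    rw [xc_vec hp hr, xc_vec hp hr, xc_vec hp hr, ex_add]
  · intro x hx
    obtain ⟨r, hr, -, rfl⟩ := hx' x hx
    exact xc_inj hp hr
  · intro x hx s t
    obtain ⟨r, hr, h0, rfl⟩ := hx' x hx
    rw [xc_vec hp hr, xc_vec hp hth]
    exact Tb.ex_cen hp hr h0 s t
  · rintro x ⟨r, hr, h1, rfl⟩
    obtain ⟨s, hs⟩ := Tb.pair hr h1
    obtain ⟨-, h5, h6, -⟩ := Tb.op_spec hs
    refine ⟨s, h5, (mem_L1.1 (Tb.mem_L1_of hs).2).2, ?_⟩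
    rw [← h6, add_sub_cancel_left]
  · rintro x ⟨r, hr, h1, rfl⟩ y ⟨r', hr', h2, rfl⟩ h3 s t
    rw [xc_vec hp hr, xc_vec hp hr']
    exact Tb.ex_comm0 hp hr hr' h1 h2 h3 s t
  · rintro x ⟨r, hr, h1, rfl⟩ s t
    obtain ⟨r', hc⟩ := Tb.pair hr h1
    obtain ⟨-, h5, h6, -⟩ := Tb.op_spec hc
    rw [← h6, add_sub_cancel_left, xc_vec hp hr, xc_vec hp h5, h6, xc_vec hp Tb.th_lt]
    have h7 := Tb.ex_comm2 hp (K := K) hc s t
    have h8 := Tb.cx_eq hp hc
    simp only at h7 h8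
    rw [h7, h8, Int.cast_neg]

end anyfield

/-! ### levels -/

section levels

variable {k : Type u} [Field k] (hk : LocFin k) (r : ℕ) [Fact r.Prime] [CharP k r]

/-- the group `Q` -/
noncomputable abbrev QQ (hp : IsType D l M) (k : Type u) [Field k] (j th : ℕ) : Subgroup ↥(D.group k) :=
  H351.RG.QK (xc (K := k) hp) (vec D l th) (Lv D l j)

/-- `Q` of level `E` -/
abbrev VE (hp : IsType D l M) (Tb : Tab D l j th) (E : Lev k) : Subgroup ↥(D.group ↥E.1) :=
  VJ M.toCoxeterSystem hp.isCartan (XX D l ↥E.1) (Jn Tb.jf)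

theorem mem_NotJ {x : Fin l → ℤ} (hx : x ∈ NotJ M.toCoxeterSystem hp.isCartan (Jn Tb.jf)) :
    x = vec D l th ∨ x ∈ Lv D l j := by
  obtain ⟨h1, h2, i, hi, hi0⟩ := hx
  have : i = Tb.jf := by
    by_contra hne
    exact hi hne
  subst this
  obtain ⟨r, hr, rfl⟩ := (isRoot_iff hp _ _).1 h1
  by_cases h3 : vec D l r Tb.jf = 1
  · exact Or.inr ⟨r, hr, h3, rfl⟩
  · left
    rw [Tb.top' hr (by omega)]

theorem NotJ_of {x : Fin l → ℤ} (hx : x = vec D l th ∨ x ∈ Lv D l j) :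
    x ∈ NotJ M.toCoxeterSystem hp.isCartan (Jn Tb.jf) := by
  have := finite_W hp M.toCoxeterSystem
  have h1 : IsRoot M.toCoxeterSystem hp.isCartan x ∧ 0 < x Tb.jf := by
    rcases hx with rfl | ⟨r, hr, h1, rfl⟩
    · exact ⟨isRoot_vec hp _ Tb.th_lt, by rw [Tb.lev_th hp M.toCoxeterSystem]; norm_num⟩
    · refine ⟨isRoot_vec hp _ hr, ?_⟩
      have h2 : vec D l r Tb.jf = rt D r j := rfl
      rw [h2, h1]; norm_num
  refine ⟨h1.1, ?_, Tb.jf, fun h3 => h3 rfl, h1.2⟩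
  rcases h1.1.pos_or_neg with h3 | h3
  · exact h3
  · have := h3 Tb.jf
    simp only [Pi.zero_apply] at this
    omega

theorem map_VE_le (E : Lev k) : (VE hp Tb E).map (emb hp.inList E.1.subtype) ≤ QQ hp k j th := by
  rw [Subgroup.map_le_iff_le_comap]
  refine RGD.Sup_le fun x hx g hg => ?_
  have hxL := Tb.mem_NotJ hp hx
  obtain ⟨r, hr, rfl⟩ := (isRoot_iff hp M.toCoxeterSystem x).1 hx.1
  obtain ⟨t, rfl⟩ := (mem_XX_vec hp hr).1 hg
  rw [Subgroup.mem_comap, ← xc_vec hp hr, emb_xc]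
  exact H351.RG.e_mem hxL _

include hk in
theorem exists_VE {q : ↥(D.group k)} (hq : q ∈ QQ hp k j th) : ∃ E : Lev k, ∀ E' : Lev k, E ≤ E' →
    ∃ q' ∈ VE hp Tb E', emb hp.inList E'.1.subtype q' = q := by
  induction hq using Subgroup.closure_induction with
  | mem z hz =>
    obtain ⟨x, hx, t, rfl⟩ := hz
    obtain ⟨E, hE⟩ := exists_mem_lev hk t
    refine ⟨E, fun E' hE' => ?_⟩
    have hxN := Tb.NotJ_of hp hx
    obtain ⟨r, hr, rfl⟩ := (isRoot_iff hp M.toCoxeterSystem x).1 hxN.1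
    refine ⟨xc hp (vec D l r) (⟨t, hE' hE⟩ : ↥E'.1), RGD.le_Sup hxN ?_, ?_⟩
    · rw [mem_XX_vec hp hr]
      exact ⟨_, (xc_vec hp hr _).symm⟩
    · rw [emb_xc]
      rfl
  | one =>
    obtain ⟨E⟩ := nonempty_lev hk
    exact ⟨E, fun _ _ => ⟨1, one_mem _, map_one _⟩⟩
  | mul a b _ _ iha ihb =>
    obtain ⟨E, hE⟩ := iha
    obtain ⟨E', hE'⟩ := ihb
    obtain ⟨E'', h1, h2⟩ := dir_lev hk E E'
    refine ⟨E'', fun E₀ h0 => ?_⟩
    obtain ⟨a', ha', rfl⟩ := hE E₀ (h1.trans h0)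
    obtain ⟨b', hb', rfl⟩ := hE' E₀ (h2.trans h0)
    exact ⟨a' * b', mul_mem ha' hb', map_mul _ _ _⟩
  | inv a _ iha =>
    obtain ⟨E, hE⟩ := iha
    refine ⟨E, fun E₀ h0 => ?_⟩
    obtain ⟨a', ha', rfl⟩ := hE E₀ h0
    exact ⟨a'⁻¹, inv_mem ha', map_inv _ _⟩

include hk in
theorem exists_VE_finite {S : Set ↥(D.group k)} (hS : S.Finite) (hq : S ⊆ QQ hp k j th) : ∃ E : Lev k, ∀ E' : Lev k,
    E ≤ E' → ∀ q ∈ S, ∃ q' ∈ VE hp Tb E', emb hp.inList E'.1.subtype q' = q := by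
  induction S, hS using Set.Finite.induction_on with
  | empty =>
    obtain ⟨E⟩ := nonempty_lev hk
    exact ⟨E, fun _ _ q hq => absurd hq (Set.notMem_empty q)⟩
  | @insert a S _ _ ih =>
    rw [Set.insert_subset_iff] at hq
    obtain ⟨E, hE⟩ := ih hq.2
    obtain ⟨E', hE'⟩ := Tb.exists_VE hp hk hq.1
    obtain ⟨E'', h1, h2⟩ := dir_lev hk E E'
    refine ⟨E'', fun E₀ h0 q hq => ?_⟩
    rcases Set.mem_insert_iff.1 hq with rfl | hq
    · exact hE' E₀ (h2.trans h0)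
    · exact hE E₀ (h1.trans h0) q hq

include hk r in
/-- **The centraliser of a long root element normalises `Q` and centralises the root group.** -/
theorem comm_kk {y : ↥(D.group k)} {s : k} (hs : s ≠ 0)
    (hy : y * xc hp (vec D l th) s = xc hp (vec D l th) s * y) :
    (∀ q ∈ QQ hp k j th, y * q * y⁻¹ ∈ QQ hp k j th) ∧ ∀ u, y * xc hp (vec D l th) u = xc hp (vec D l th) u * y := by
  have := finite_W hp M.toCoxeterSystem
  obtain ⟨E1, hE1⟩ := exists_level hp hk y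
  constructor
  · intro q hq
    obtain ⟨E2, hE2⟩ := Tb.exists_VE hp hk hq
    obtain ⟨E3, hE3⟩ := exists_mem_lev hk s
    obtain ⟨E4, h14, h24⟩ := dir_lev hk E1 E2
    obtain ⟨E, h3E, h4E⟩ := dir_lev hk E3 E4
    obtain ⟨y', rfl⟩ := hE1 E (h14.trans h4E)
    obtain ⟨q', hq', rfl⟩ := hE2 E (h24.trans h4E)
    have := charP_lev r E.1
    have H := Tb.hs hp M.toCoxeterSystem (K := ↥E.1) r
    have h1 : y' * xc hp (vec D l th) (⟨s, h3E hE3⟩ : ↥E.1) = xc hp (vec D l th) (⟨s, h3E hE3⟩ : ↥E.1) * y' := by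
      apply emb_injective hp.inList E.1.subtype
      rw [map_mul, map_mul, emb_xc]
      exact hy
    obtain ⟨h2, -⟩ := H.of_comm (GG_top hp _) (s := ⟨s, h3E hE3⟩) (fun h => hs (congrArg Subtype.val h)) h1
    have h3 := H.conj_Q h2 hq'
    have h4 := Tb.map_VE_le hp E (Subgroup.mem_map_of_mem _ h3)
    rwa [map_mul, map_mul, map_inv] at h4
  · intro u
    obtain ⟨E2, hE2⟩ := exists_mem_lev hk u
    obtain ⟨E3, hE3⟩ := exists_mem_lev hk s
    obtain ⟨E4, h14, h24⟩ := dir_lev hk E1 E2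
    obtain ⟨E, h3E, h4E⟩ := dir_lev hk E3 E4
    obtain ⟨y', rfl⟩ := hE1 E (h14.trans h4E)
    have := charP_lev r E.1
    have H := Tb.hs hp M.toCoxeterSystem (K := ↥E.1) r
    have h1 : y' * xc hp (vec D l th) (⟨s, h3E hE3⟩ : ↥E.1) = xc hp (vec D l th) (⟨s, h3E hE3⟩ : ↥E.1) * y' := by
      apply emb_injective hp.inList E.1.subtype
      rw [map_mul, map_mul, emb_xc]
      exact hy
    obtain ⟨-, h2⟩ := H.of_comm (GG_top hp _) (s := ⟨s, h3E hE3⟩) (fun h => hs (congrArg Subtype.val h)) h1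
    have h3 := congrArg (emb hp.inList E.1.subtype) (h2 ⟨u, (h24.trans h4E) hE2⟩)
    rw [map_mul, map_mul, emb_xc] at h3
    exact h3

include hk r in
/-- **The rule.** -/
theorem main_kk {QF : Subgroup ↥(D.group k)} (hle : QF ≤ QQ hp k j th) (hfin : (QF : Set ↥(D.group k)).Finite)
    {y : ↥(D.group k)} {s : k} (hs : s ≠ 0) (hy : y * xc hp (vec D l th) s = xc hp (vec D l th) s * y)
    (hyQ : ∀ q ∈ QF, y * q * y⁻¹ ∈ QF) {m : ℕ} (hm : y ^ m = 1) (hmp : m.Coprime r)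
    (h1 : ∀ d ∈ QF, ∀ q ∈ QF, d * q ≠ q * d → ∃ q ∈ QF, xc hp (vec D l th) s = d * q * d⁻¹ * q⁻¹)
    (h2 : ∀ w ∈ QQ hp k j th, (∀ q ∈ QF, w * q = q * w) → ∀ q ∈ QQ hp k j th, w * q = q * w) :
    y = 1 ∨ xc hp (vec D l th) s ∈ cmm QF y := by
  have := finite_W hp M.toCoxeterSystem
  obtain ⟨E1, hE1⟩ := exists_level hp hk y
  obtain ⟨E2, hE2⟩ := Tb.exists_VE_finite hp hk hfin hle
  obtain ⟨E3, hE3⟩ := exists_mem_lev hk s
  obtain ⟨E4, h14, h24⟩ := dir_lev hk E1 E2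
  obtain ⟨E, h3E, h4E⟩ := dir_lev hk E3 E4
  obtain ⟨y', rfl⟩ := hE1 E (h14.trans h4E)
  have hQ := hE2 E (h24.trans h4E)
  have := charP_lev r E.1
  have H := Tb.hs hp M.toCoxeterSystem (K := ↥E.1) r
  have hinj := emb_injective hp.inList E.1.subtype
  set s' : ↥E.1 := ⟨s, h3E hE3⟩ with hs'
  have hes : emb hp.inList E.1.subtype (xc hp (vec D l th) s') = xc hp (vec D l th) s := by
    rw [emb_xc]; rfl
  have hy1 : y' * xc hp (vec D l th) s' = xc hp (vec D l th) s' * y' := by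
    apply hinj
    rw [map_mul, map_mul, hes]
    exact hy
  have hle' : QF.comap (emb hp.inList E.1.subtype) ≤ VJ M.toCoxeterSystem hp.isCartan (XX D l ↥E.1) (Jn Tb.jf) := by
    intro q hq
    obtain ⟨q', hq', h3⟩ := hQ _ hq
    rw [← hinj h3]
    exact hq'
  rcases H.main_gen (GG_top hp _) hle' (s := s') (fun h => hs (congrArg Subtype.val h)) hy1
    (fun q hq => by
      rw [Subgroup.mem_comap, map_mul, map_mul, map_inv]
      exact hyQ _ hq) (m := m) (by
        apply hinj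
        rw [map_pow, hm, map_one]) hmp (z := xc hp (vec D l th) s') (fun d hd q hq hne => by
        obtain ⟨u, hu, h3⟩ := h1 _ hd _ hq (by
          rw [← map_mul, ← map_mul]
          exact fun h => hne (hinj h))
        obtain ⟨u', -, rfl⟩ := hQ u hu
        refine ⟨u', hu, hinj ?_⟩
        rw [hes, h3]
        simp only [map_mul, map_inv]) (fun w hw hc => by
        refine Hs.mem_Zc.2 ⟨hw, fun q hq => ?_⟩
        have h3 := h2 _ (Tb.map_VE_le hp E (Subgroup.mem_map_of_mem _ hw)) (fun q hq => by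
          obtain ⟨q', hq', rfl⟩ := hQ q hq
          rw [← map_mul, ← map_mul, hc q' hq]) _ (Tb.map_VE_le hp E (Subgroup.mem_map_of_mem _ hq))
        apply hinj
        rw [map_mul, map_mul]
        exact h3.symm) with h3 | h3
  · left
    rw [h3, map_one]
  · right
    have h4 : cmm (QF.comap (emb hp.inList E.1.subtype)) y' ≤
        (cmm QF (emb hp.inList E.1.subtype y')).comap (emb hp.inList E.1.subtype) := by
      conv_lhs => rw [cmm]
      rw [Subgroup.closure_le]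
      rintro _ ⟨u, hu, rfl⟩
      rw [SetLike.mem_coe, Subgroup.mem_comap, map_mul, map_mul, map_mul, map_inv, map_inv]
      exact mem_cmm hu
    have h5 := h4 h3
    rw [Subgroup.mem_comap, hes] at h5
    exact h5

end levels

end Tab

end Cfsg.Agent.H579.RG
end

-- part: H916/RG/C12a
section
set_option linter.all false

/-!
# S3509: `M12`, checks (helper916)
-/

set_option autoImplicit false

namespace Cfsg.Agent.H916.RG.C12

open Cfsg Cfsg.Agent.H106.RC Cfsg.Agent.H334.Ore.Mat Cfsg.Agent.H916.RG.Eng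
open Cfsg.Agent.SporadicStructure.M24El Cfsg.Agent.H729.Trans

theorem ei3A : tl D12.oi3A.p D12.oi3A.c D12.oi3A.c D12.oi3A.wd D12.oi3A.sts = D12.Zi3A := by (rewrite [Cfsg.Agent.GolayF.tl_eq]; decide +kernel)

private noncomputable def _root_.Cfsg.Agent.GolayF.f0 : {f // @Cfsg.Agent.H916.RG.Eng.chkP' = f} :=
  ⟨_, by delta Cfsg.Agent.H916.RG.Eng.chkP' Cfsg.Agent.H916.RG.Eng.crtOkP Cfsg.Agent.H916.RG.Eng.nid Cfsg.Agent.H916.RG.Eng.nw Cfsg.Agent.H916.RG.Eng.okkP Cfsg.Agent.H916.RG.Eng.ppOk Cfsg.Agent.H916.RG.Eng.pwc Cfsg.Agent.H916.RG.Eng.pwc._f Cfsg.Agent.H916.RG.Eng.runP Cfsg.Agent.H916.RG.Eng.runP._f; rewrite [Cfsg.Agent.GolayF.papp_eq, Cfsg.Agent.GolayF.pcomp_eq, Cfsg.Agent.GolayF.ok_eq]; exact rfl⟩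

private noncomputable def _root_.Cfsg.Agent.GolayF.f1 : {f // @Cfsg.Agent.H916.RG.P12 = f} :=
  ⟨_, by delta Cfsg.Agent.H916.RG.P12; rewrite [Cfsg.Agent.GolayF.papp_eq, Cfsg.Agent.GolayF.ok_eq]; exact rfl⟩

theorem fi3A : D12.Zi3A.all (chkP' P12 D12.Ti3A) = true := by (rewrite [Cfsg.Agent.GolayF.f0.2, Cfsg.Agent.GolayF.f1.2]; decide +kernel)

private noncomputable def _root_.Cfsg.Agent.GolayF.f2 : {f // @Cfsg.Agent.H729.Trans.pre = f} :=
  ⟨_, by delta Cfsg.Agent.H729.Trans.mk Cfsg.Agent.H729.Trans.mk._f Cfsg.Agent.H729.Trans.pre Cfsg.Agent.H729.Trans.srcOk Cfsg.Agent.H729.Trans.srcOk._f Cfsg.Agent.H729.Trans.wdOk; rewrite [Cfsg.Agent.GolayF.isCode_eq, Cfsg.Agent.GolayF.ok_eq, Cfsg.Agent.GolayF.pw_eq]; exact rfl⟩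

theorem gi3A : pre D12.oi3A.p D12.oi3A.c D12.oi3A.wd D12.oi3A.sts = true := by (rewrite [Cfsg.Agent.GolayF.f2.2]; decide +kernel)

end Cfsg.Agent.H916.RG.C12
end

-- part: H579/RG/LongLR
section
set_option linter.all false
open scoped Cfsg.Agent.FastGrp

/-!
# S3509, exceptional groups: `LRData` for the long root elements (helper579)

`m : MData hp r q K₀`, `Tb : Tab D l j th`, `th` the highest root.

* `Vm m v` : long root elements of `Y^σ`; `Um Tb m v` : the conjugate of `Q ⊓ Y^σ`;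
* `lrData : LRData (fixedSubgroup m.σ) r (Vm m) (Um Tb m)`;
* `pmem` : `r`-elements of `Y^σ` lie in `m.ι.range`; `vmem`, `ule`;
* `LRData.mono`.
-/

set_option autoImplicit false
set_option linter.unusedSectionVars false

namespace Cfsg.Agent.H579.RG

open CoxeterSystem Cfsg Cfsg.Lie Cfsg.Lie.ChevalleyDatum
open Cfsg.Agent.ChevalleyStructure Cfsg.Agent.ChevalleyStructure.Elts Cfsg.Agent.ChevalleyStructure.CoxeterGeom
  Cfsg.Agent.ChevalleyStructure.CoxeterGeomTypes Cfsg.Agent.ChevalleyStructure.NPerm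
open Cfsg.Agent.Tits.Roots Cfsg.Agent.Tits.Core Cfsg.Agent.Nodes Cfsg.Agent.Nodes.Reps Cfsg.Agent.Nodes.BNOf
  Cfsg.Agent.Nodes.RGDChev Cfsg.Agent.Nodes.LeviDec
open Cfsg.Agent.KFacts.RgdField Cfsg.Agent.KFacts.RgdChevCoord
  Cfsg.Agent.BpExc.TowChev Cfsg.Agent.GpExc.Field Cfsg.Agent.BpExc
open Cfsg.Agent.ChevalleyStructure.RootVecTab Cfsg.Agent.ChevalleyStructure.RootVec
open Cfsg.Agent.H469.Exc Cfsg.Agent.H469.Exc.SigFr Cfsg.Agent.H316.U6 Cfsg.Agent.H368.RG Cfsg.Agent.H380.RC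
open scoped commutatorElement

universe u v

variable {D : ChevalleyDatum} {l : ℕ} {M : CoxeterMatrix (Fin l)} {hp : IsType D l M} {j th : ℕ}

theorem LRmono {G : Type*} [Group G] {I : Subgroup G} {p : ℕ} {V V' : G → Prop} {U : G → Subgroup G}
    (h : LRData I p V U) (hV : ∀ v, V' v → V v) : LRData I p V' U :=
  ⟨fun v hv => h.ne v (hV v hv), fun v hv => h.comm v (hV v hv), fun v hv => h.nil v (hV v hv),
    fun v hv => h.card v (hV v hv), fun v hv => h.norm v (hV v hv), fun v hv => h.mem v (hV v hv)⟩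

theorem LR_eq (Tb : Tab D l j th) (hp : IsType D l M) (hth : th = D.nroots - 1) : H351.RG.LR D l = Lv D l j := by
  have := finite_W hp M.toCoxeterSystem
  have h2 : vec D l th Tb.jf = 2 := Tb.lev_th hp M.toCoxeterSystem
  ext x
  constructor
  · rintro ⟨⟨s, hs, rfl⟩, s', hs', h1⟩
    rw [← hth] at h1
    refine ⟨s, hs, ?_, rfl⟩
    have h3 := congrFun h1 Tb.jf
    rw [Pi.sub_apply, h2] at h3
    have h4 : vec D l s Tb.jf < 2 := by
      by_contra hcon
      have h5 := Tb.top' hs (by omega)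
      rw [h5, sub_self] at h1
      exact (isRoot_vec hp M.toCoxeterSystem hs').ne_zero h1
    have h5 : vec D l s' Tb.jf < 2 := by
      by_contra hcon
      have h6 := Tb.top' hs' (by omega)
      rw [h6] at h1
      have h7 : vec D l s = 0 := by
        have h8 : vec D l th + vec D l s = vec D l th := by rw [eq_sub_iff_add_eq] at h1; exact h1
        exact add_eq_left.1 h8
      exact (isRoot_vec hp M.toCoxeterSystem hs).ne_zero h7
    have h6 : rt D s j = vec D l s Tb.jf := rfl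
    omega
  · rintro ⟨s, hs, h1, rfl⟩
    obtain ⟨s', hc⟩ := Tb.pair hs h1
    obtain ⟨-, h5, h6, -⟩ := Tb.op_spec hc
    exact ⟨⟨s, hs, rfl⟩, s', h5, by rw [← hth, ← h6, add_sub_cancel_left]⟩

variable {r q : ℕ} [hr : Fact r.Prime] {K₀ : Type v} [Group K₀] (m : MData hp r q K₀)

theorem odd_of (Tb : Tab D l j th) (hp : IsType D l M) (hth : th = D.nroots - 1)
    (hodd : Odd (∑ i ∈ Finset.range l, rt D th i)) : Odd (∑ i, vec D l (D.nroots - 1) i) := by
  rw [← hth]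
  have h1 : ∑ i, vec D l th i = ∑ i ∈ Finset.range l, rt D th i := by
    rw [Finset.sum_range]
    rfl
  rwa [h1]

/-- `σ` on `Q` -/
theorem sgL (Tb : Tab D l j th) (hth : th = D.nroots - 1) (hodd : Odd (∑ i ∈ Finset.range l, rt D th i)) :
    H351.RG.Sg (xc (K := KK r) hp) (vec D l th) (Lv D l j) m.σ q (fun v => m.g v) := by
  have h1 := H351.RG.sg m (by have := Tb.th_lt; omega) (odd_of Tb hp hth hodd)
  rw [LR_eq Tb hp hth, ← hth] at h1
  exact h1

/-- long root elements -/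
def Vm (m : MData hp r q K₀) (v : ↥(D.group (KK r))) : Prop :=
  v ≠ 1 ∧ ∃ y, m.σ y = y ∧ ∃ t, m.σ (xc hp (vec D l (D.nroots - 1)) t) = xc hp (vec D l (D.nroots - 1)) t ∧
    v = y * xc hp (vec D l (D.nroots - 1)) t * y⁻¹

/-- the rational points of `Q` -/
noncomputable def QF (m : MData hp r q K₀) (j th : ℕ) : Subgroup ↥(D.group (KK r)) :=
  Tab.QQ hp (KK r) j th ⊓ fixedSubgroup m.σ

open Classical in
/-- the group of a long root element -/
noncomputable def Um (m : MData hp r q K₀) (j th : ℕ) (v : ↥(D.group (KK r))) : Subgroup ↥(D.group (KK r)) :=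
  if h : Vm m v then (QF m j th).map (MulAut.conj h.2.choose).toMonoidHom else ⊥

theorem mem_Um {v : ↥(D.group (KK r))} (h : Vm m v) {u : ↥(D.group (KK r))} :
    u ∈ Um m j th v ↔ h.2.choose⁻¹ * u * h.2.choose ∈ QF m j th := by
  unfold Um
  rw [dif_pos h]
  constructor
  · rintro ⟨z, hz, rfl⟩
    change h.2.choose⁻¹ * (h.2.choose * z * h.2.choose⁻¹) * h.2.choose ∈ _
    have e : h.2.choose⁻¹ * (h.2.choose * z * h.2.choose⁻¹) * h.2.choose = z := by group
    rwa [e]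
  · intro h1
    refine ⟨_, h1, ?_⟩
    change h.2.choose * (h.2.choose⁻¹ * u * h.2.choose) * h.2.choose⁻¹ = u
    group

theorem pow_of_QQ (Tb : Tab D l j th) {y : ↥(D.group (KK r))} (hy : y ∈ Tab.QQ hp (KK r) j th) : ∃ k, y ^ r ^ k = 1 := by
  have := finite_W hp M.toCoxeterSystem
  obtain ⟨E, hE⟩ := Tb.exists_VE hp (locFin r) hy
  obtain ⟨y', hy', rfl⟩ := hE E le_rfl
  have := charP_lev r E.1
  obtain ⟨k, hk⟩ := KFacts.RgdCharP.isPGroup_VJ (rgd (K := ↥E.1) hp M.toCoxeterSystem r) (Jn Tb.jf) ⟨y', hy'⟩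
  refine ⟨k, ?_⟩
  have h3 : y' ^ r ^ k = 1 := congrArg Subtype.val hk
  rw [← map_pow, h3, map_one]

/-- **`r`-elements of `Y^σ` lie in the group** -/
theorem pmem {y : ↥(D.group (KK r))} (hy : m.σ y = y) {k : ℕ} (hk : y ^ r ^ k = 1) : y ∈ m.ι.range := by
  obtain ⟨n, hn, h1⟩ := m.idx y hy
  have h2 : n.Coprime (orderOf y) :=
    Nat.Coprime.coprime_dvd_right (orderOf_dvd_of_pow_eq_one hk) (hn.pow_right k)
  obtain ⟨a, ha⟩ := exists_pow_eq_self_of_coprime h2
  rw [← ha]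
  exact pow_mem h1 a

theorem card_QF (Tb : Tab D l j th) : IsPGroup r (QF m j th) := by
  rintro ⟨y, hy⟩
  obtain ⟨k, hk⟩ := pow_of_QQ Tb hy.1
  exact ⟨k, Subtype.ext hk⟩

theorem finite_QF : ((QF m j th : Subgroup ↥(D.group (KK r))) : Set ↥(D.group (KK r))).Finite := by
  have := m.fin
  have h1 : ((fixedSubgroup m.σ : Subgroup ↥(D.group (KK r))) : Set ↥(D.group (KK r))).Finite :=
    Set.toFinite _
  exact h1.subset fun x hx => hx.2

theorem pgroup_Um (Tb : Tab D l j th) (v : ↥(D.group (KK r))) : IsPGroup r (Um m j th v) := by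
  by_cases h : Vm m v
  · have h1 : Um m j th v = (QF m j th).map (MulAut.conj h.2.choose).toMonoidHom := dif_pos h
    rw [h1]
    exact (card_QF m Tb).map _
  · have h1 : Um m j th v = ⊥ := dif_neg h
    rw [h1]
    exact IsPGroup.of_bot

theorem finite_Um (v : ↥(D.group (KK r))) : Finite (Um m j th v) := by
  by_cases h : Vm m v
  · have h1 : Um m j th v = (QF m j th).map (MulAut.conj h.2.choose).toMonoidHom := dif_pos h
    rw [h1]
    exact ((finite_QF m).image _).to_subtype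
  · have h1 : Um m j th v = ⊥ := dif_neg h
    rw [h1]
    infer_instance

/-- **`LRData` for the long root elements.** -/
theorem lrData (Tb : Tab D l j th) (hth : th = D.nroots - 1) (hodd : Odd (∑ i ∈ Finset.range l, rt D th i)) :
    LRData (fixedSubgroup m.σ) r (Vm m) (Um m j th) := by
  subst hth
  have H := Tb.lq (K := KK r) hp
  have S := sgL m Tb rfl hodd
  have hsp : ∀ v (h : Vm m v), m.σ h.2.choose = h.2.choose ∧ ∃ t, t ≠ 0 ∧
      m.σ (xc hp (vec D l (D.nroots - 1)) t) = xc hp (vec D l (D.nroots - 1)) t ∧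
      h.2.choose⁻¹ * v * h.2.choose = xc hp (vec D l (D.nroots - 1)) t := by
    intro v h
    obtain ⟨h1, t, h2, h3⟩ := h.2.choose_spec
    have h4 : h.2.choose⁻¹ * v * h.2.choose = xc hp (vec D l (D.nroots - 1)) t := by
      generalize h.2.choose = g at h3 ⊢
      rw [h3]
      group
    refine ⟨h1, t, ?_, h2, h4⟩
    rintro rfl
    apply h.1
    rw [H.zero (Or.inl rfl)] at h3
    rw [h3]
    group
  refine ⟨fun v hv => hv.1, ?_, ?_, ?_, ?_, ?_⟩
  · intro v hv u hu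
    rw [mem_Um m hv] at hu
    obtain ⟨h1, t, ht, h2, h3⟩ := hsp v hv
    have h4 := H.a_comm hu.1 t
    rw [← h3] at h4
    set g := hv.2.choose
    have e1 : g⁻¹ * u * g * (g⁻¹ * v * g) = g⁻¹ * (u * v) * g := by group
    have e2 : g⁻¹ * v * g * (g⁻¹ * u * g) = g⁻¹ * (v * u) * g := by group
    rw [e1, e2] at h4
    exact mul_left_cancel (mul_right_cancel h4)
  · intro v hv
    have := finite_Um m (j := j) (th := D.nroots - 1) v
    exact (pgroup_Um m Tb v).isNilpotent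
  · intro v hv s hs hsr
    have := finite_Um m (j := j) (th := D.nroots - 1) v
    obtain ⟨n, hn⟩ := IsPGroup.iff_card.1 (pgroup_Um m Tb v)
    rw [hn]
    exact Nat.Coprime.pow_right n ((Nat.coprime_primes hs hr.out).2 hsr)
  · intro v hv y hy hyv u hu
    rw [mem_Um m hv] at hu ⊢
    obtain ⟨h1, t, ht, h2, h3⟩ := hsp v hv
    set g := hv.2.choose
    have hyσ : m.σ y = y := hy
    have h4 : (g⁻¹ * y * g) * xc hp (vec D l (D.nroots - 1)) t = xc hp (vec D l (D.nroots - 1)) t * (g⁻¹ * y * g) := by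
      rw [← h3]
      calc g⁻¹ * y * g * (g⁻¹ * v * g) = g⁻¹ * (y * v) * g := by group
        _ = g⁻¹ * v * g * (g⁻¹ * y * g) := by rw [hyv]; group
    obtain ⟨h5, -⟩ := Tb.comm_kk hp (locFin r) r ht h4
    have h6 := h5 _ hu.1
    have e1 : g⁻¹ * (y * u * y⁻¹) * g = g⁻¹ * y * g * (g⁻¹ * u * g) * (g⁻¹ * y * g)⁻¹ := by group
    have h7 : m.σ (g⁻¹ * u * g) = g⁻¹ * u * g := hu.2
    refine ⟨by rw [e1]; exact h6, ?_⟩
    change m.σ (g⁻¹ * (y * u * y⁻¹) * g) = _
    rw [e1]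
    simp only [map_mul, map_inv, h1, hyσ] at h7 ⊢
    rw [h7]
  · intro v hv y hy hyv hy1 s hs hsr hys
    obtain ⟨h1, t, ht, h2, h3⟩ := hsp v hv
    set g := hv.2.choose with hg
    have hyσ : m.σ y = y := hy
    have h4 : (g⁻¹ * y * g) * xc hp (vec D l (D.nroots - 1)) t = xc hp (vec D l (D.nroots - 1)) t * (g⁻¹ * y * g) := by
      rw [← h3]
      calc g⁻¹ * y * g * (g⁻¹ * v * g) = g⁻¹ * (y * v) * g := by group
        _ = g⁻¹ * v * g * (g⁻¹ * y * g) := by rw [hyv]; group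
    obtain ⟨h5, -⟩ := Tb.comm_kk hp (locFin r) r ht h4
    have h6 : m.σ (g⁻¹ * y * g) = g⁻¹ * y * g := by simp only [map_mul, map_inv, h1, hyσ]
    have h7 : (g⁻¹ * y * g) ^ s = 1 := by
      have e1 : (g⁻¹ * y * g) ^ s = g⁻¹ * y ^ s * g := by
        have := conj_pow (i := s) (a := g⁻¹) (b := y)
        rwa [inv_inv] at this
      rw [e1, hys]
      group
    have h8 := Tb.main_kk hp (locFin r) r (QF := QF m j (D.nroots - 1)) inf_le_left (finite_QF m) ht h4 (fun q hq => by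
      refine ⟨h5 q hq.1, ?_⟩
      have hq2 : m.σ q = q := hq.2
      change m.σ (g⁻¹ * y * g * q * (g⁻¹ * y * g)⁻¹) = _
      rw [map_mul, map_mul, map_inv, h6, hq2]) h7 ((Nat.coprime_primes hs hr.out).2 hsr)
      (fun d hd u hu hne => by
        obtain ⟨w, hw, hw2, hw3⟩ := S.h1 H hd.1 hd.2 ⟨u, hu.1, hne⟩ h2
        exact ⟨w, ⟨hw, hw2⟩, hw3⟩)
      (fun w hw hc => S.h2 H hw fun u hu hu2 => hc u ⟨hu, hu2⟩)
    rcases h8 with h8 | h8
    · exfalso
      apply hy1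
      have e1 : y = g * (g⁻¹ * y * g) * g⁻¹ := by group
      rw [e1, h8]
      group
    · have h9 : cmm (QF m j (D.nroots - 1)) (g⁻¹ * y * g) ≤ (cmm (Um m j (D.nroots - 1) v) y).comap (MulAut.conj g).toMonoidHom := by
        conv_lhs => rw [cmm]
        rw [Subgroup.closure_le]
        rintro _ ⟨u, hu, rfl⟩
        change g * (u * (g⁻¹ * y * g) * u⁻¹ * (g⁻¹ * y * g)⁻¹) * g⁻¹ ∈ cmm (Um m j (D.nroots - 1) v) y
        have e1 : g * (u * (g⁻¹ * y * g) * u⁻¹ * (g⁻¹ * y * g)⁻¹) * g⁻¹ =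
            (g * u * g⁻¹) * y * (g * u * g⁻¹)⁻¹ * y⁻¹ := by group
        rw [e1]
        refine mem_cmm ?_
        rw [mem_Um m hv, ← hg]
        have e2 : g⁻¹ * (g * u * g⁻¹) * g = u := by group
        rwa [e2]
      have h10 : g * xc hp (vec D l (D.nroots - 1)) t * g⁻¹ ∈ cmm (Um m j (D.nroots - 1) v) y := h9 h8
      rw [← h3] at h10
      have e1 : g * (g⁻¹ * v * g) * g⁻¹ = v := by group
      rwa [e1] at h10

theorem pow_of_Um (Tb : Tab D l j th) {v y : ↥(D.group (KK r))} (hy : y ∈ Um m j th v) :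
    m.σ y = y ∧ ∃ k, y ^ r ^ k = 1 := by
  obtain ⟨k, hk⟩ := pgroup_Um m Tb v ⟨y, hy⟩
  refine ⟨?_, k, congrArg Subtype.val hk⟩
  by_cases h : Vm m v
  · have h1 := (mem_Um m h).1 hy
    have h2 := h.2.choose_spec.1
    have h3 : m.σ (h.2.choose⁻¹ * y * h.2.choose) = h.2.choose⁻¹ * y * h.2.choose := h1.2
    simp only [map_mul, map_inv, h2] at h3
    exact mul_left_cancel (mul_right_cancel h3)
  · have h1 : Um m j th v = ⊥ := dif_neg h
    rw [h1, Subgroup.mem_bot] at hy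
    rw [hy, map_one]

theorem ule (Tb : Tab D l j th) (v : ↥(D.group (KK r))) : Um m j th v ≤ m.ι.range := by
  intro y hy
  obtain ⟨h1, k, hk⟩ := pow_of_Um m Tb hy
  exact pmem m h1 hk

theorem vmem (Tb : Tab D l j th) (hth : th = D.nroots - 1) {v : ↥(D.group (KK r))} (hv : Vm m v) : v ∈ m.ι.range := by
  subst hth
  obtain ⟨-, y, hy, t, ht, rfl⟩ := hv
  obtain ⟨k, hk⟩ := pow_of_QQ Tb (H351.RG.e_mem (e := xc (K := KK r) hp) (Or.inl rfl) t)
  refine pmem m (k := k) ?_ ?_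
  · rw [map_mul, map_mul, map_inv, hy, ht]
  · rw [conj_pow, hk]
    group

theorem pmem' {y : ↥(D.group (KK r))} (hy : y ∈ fixedSubgroup m.σ) (h1 : y ^ r = 1) : y ∈ m.ι.range :=
  pmem m (k := 1) hy (by rw [pow_one]; exact h1)

/-! ### the types -/

/-- the table and the parity -/
def LTab (D : ChevalleyDatum) (l j : ℕ) : Prop :=
  Tab D l j (D.nroots - 1) ∧ Odd (∑ i ∈ Finset.range l, rt D (D.nroots - 1) i)

theorem ltab_D4 : LTab chevD4 4 1 := ⟨tab_D4, by decide +kernel⟩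

theorem ltab_F4 : LTab chevF4 4 3 := ⟨tab_F4, by decide +kernel⟩

theorem ltab_E6 : LTab chevE6 6 1 := ⟨tab_E6, by decide +kernel⟩

theorem ltab_E7 : LTab chevE7 7 0 := ⟨tab_E7, by decide +kernel⟩

theorem ltab_E8 : LTab chevE8 8 7 := ⟨tab_E8, by decide +kernel⟩

/-- **All the long root data, except `core` of `YData`.** -/
theorem long_root (T : LTab D l j) : LRData (fixedSubgroup m.σ) r (Vm m) (Um m j (D.nroots - 1)) ∧
    (∀ v, Vm m v → v ∈ m.ι.range) ∧ (∀ v, Vm m v → Um m j (D.nroots - 1) v ≤ m.ι.range) ∧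
    (∀ y ∈ fixedSubgroup m.σ, y ^ r = 1 → y ∈ m.ι.range) :=
  ⟨lrData m T.1 rfl T.2, fun _ hv => vmem m T.1 rfl hv, fun v _ => ule m T.1 v, fun _ hy h1 => pmem' m hy h1⟩

end Cfsg.Agent.H579.RG
end
end
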